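import Groth.Agent.FlatModB.Basic
import Groth.Agent.FlatModBC.Basic
import Groth.Agent.ModDesc.BaseChange
import Groth.Agent.ModDesc.Sect

/-!
# Flatness of a base changed module on affine opens
-/

set_option autoImplicit false
set_option backward.isDefEq.respectTransparency false
set_option linter.style.haveILetI false

universe u

open CategoryTheory CategoryTheory.Limits AlgebraicGeometry TopologicalSpace Opposite TensorProduct

namespace Groth.Agent.FlatLimMod

variable {X Y : Scheme.{u}}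

/-- Flatness at a point only depends on the module up to isomorphism. -/
theorem isFlatOverAt_of_iso (f : X ⟶ Y) {M N : X.Modules} (e : M ≅ N) {x : X}
    (h : FlatMod.IsFlatOverAt f M x) : FlatMod.IsFlatOverAt f N x := by
  let R := Y.presheaf.stalk (f x)
  let L := X.presheaf.stalk x
  let eL : M.presheaf.stalk x ≃ₗ[L] N.presheaf.stalk x := ((DerSch.stalkFunctor X x).mapIso e).toLinearEquiv
  letI := FlatMod.moduleStalkOver f M x
  letI := FlatMod.moduleStalkOver f N x
  letI : Algebra R L := (f.stalkMap x).hom.toAlgebra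
  haveI : IsScalarTower R L (M.presheaf.stalk x) := IsScalarTower.of_algebraMap_smul fun _ _ => rfl
  haveI : IsScalarTower R L (N.presheaf.stalk x) := IsScalarTower.of_algebraMap_smul fun _ _ => rfl
  haveI : Module.Flat R (M.presheaf.stalk x) := h
  exact Module.Flat.of_linearEquiv (eL.restrictScalars R).symm

/-- Flatness at the points of an affine piece of a base change, as flatness of a tensor product. -/
theorem flat_tensor_sections_iff {X₀ Y₀ A' B' : Scheme.{u}} {f₀ : X₀ ⟶ Y₀} {a : A' ⟶ Y₀} {b : B' ⟶ X₀}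
    {m : B' ⟶ A'} (hpb : IsPullback b m f₀ a) (F : X₀.Modules) (hF : Coh.IsQCoh F) {V : Y₀.Opens}
    (hV : IsAffineOpen V) {U : X₀.Opens} (hU : IsAffineOpen U) (hUV : U ≤ f₀ ⁻¹ᵁ V) {O : A'.Opens}
    (hO : IsAffineOpen O) (hOV : O ≤ a ⁻¹ᵁ V) :
    (∀ x ∈ b ⁻¹ᵁ U ⊓ m ⁻¹ᵁ O, FlatMod.IsFlatOverAt m ((Scheme.Modules.pullback b).obj F) x) ↔
      (letI : Algebra Γ(Y₀, V) Γ(A', O) := (a.appLE V O hOV).hom.toAlgebra
       letI := FlatModB.secModule f₀ F U V hUV
       Module.Flat Γ(A', O) (Γ(A', O) ⊗[Γ(Y₀, V)] Γ(F, U))) := by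
  let W : B'.Opens := b ⁻¹ᵁ U ⊓ m ⁻¹ᵁ O
  have hW : IsAffineOpen W := by
    haveI : IsAffine _ := hV
    haveI : IsAffine _ := hU
    haveI : IsAffine _ := hO
    exact .of_isIso (Scheme.Hom.isPullback_resLE hpb hOV hUV (rfl : W = _)).isoPullback.hom
  have hP := (isIso_pushoutSection_iff hpb hOV hUV (rfl : W = _)).1
    (isIso_pushoutSection_of_isAffineOpen hpb hOV hUV rfl hV hO hU)
  let A := Γ(Y₀, V)
  let B := Γ(X₀, U)
  let C := Γ(A', O)
  let B'' := Γ(B', W)
  letI : Algebra A C := (a.appLE V O hOV).hom.toAlgebra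
  letI : Algebra A B := (f₀.appLE V U hUV).hom.toAlgebra
  letI : Algebra B B'' := (b.appLE U W inf_le_left).hom.toAlgebra
  letI : Algebra C B'' := (m.appLE O W inf_le_right).hom.toAlgebra
  letI : Algebra A B'' := ((algebraMap B B'').comp (algebraMap A B)).toAlgebra
  haveI : IsScalarTower A B B'' := IsScalarTower.of_algebraMap_eq fun _ => rfl
  haveI : IsScalarTower A C B'' := IsScalarTower.of_algebraMap_eq fun r => congr($(hP.w).hom r)
  haveI : Algebra.IsPushout A B C B'' := CommRingCat.isPushout_iff_isPushout.1 hP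
  haveI : Algebra.IsPushout A C B B'' := Algebra.IsPushout.symm inferInstance
  letI := FlatModB.secModule f₀ F U V hUV
  haveI : IsScalarTower A B Γ(F, U) := IsScalarTower.of_algebraMap_smul fun _ _ => rfl
  let P := (Scheme.Modules.pullback b).obj F
  letI := FlatModB.secModule m P W O inf_le_right
  haveI : IsScalarTower C B'' Γ(P, W) := IsScalarTower.of_algebraMap_smul fun _ _ => rfl
  haveI : Coh.IsQCoh F := hF
  obtain ⟨Φ, -⟩ := ModDesc.exists_bijective_liftBaseChange b F hU hW inf_le_left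
  let e : Γ(P, W) ≃ₗ[C] C ⊗[A] Γ(F, U) :=
    (Φ.symm.restrictScalars C).trans (Algebra.IsPushout.cancelBaseChange A C B B'' Γ(F, U))
  refine (FlatModB.flat_sections_iff m P (QC.isQCoh_pullback b hF) hW hO inf_le_right).symm.trans ?_
  exact ⟨fun _ => Module.Flat.of_linearEquiv e.symm, fun _ => Module.Flat.of_linearEquiv e⟩

end Groth.Agent.FlatLimMod
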