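import Groth.Agent.FlatLimMod.Basic
import Groth.Agent.FlatSpread.Tensor
import Groth.Agent.FlatSpread.Fp
import Groth.Agent.LocFree.Props
import Groth.Agent.LimDesc.Tower
import Groth.Agent.LimDesc.Descend
import Groth.Agent.ModDesc.Limit
import Groth.Agent.ModDesc.Iso
import Mathlib.AlgebraicGeometry.Morphisms.FinitePresentation

/-!
# Flatness of a module over a base descends to a stage
-/

set_option autoImplicit false
set_option backward.isDefEq.respectTransparency false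
set_option linter.style.haveILetI false

universe u

open CategoryTheory CategoryTheory.Limits AlgebraicGeometry TopologicalSpace Opposite TensorProduct

noncomputable section

namespace Groth.Agent.FlatLimMod

open LimDesc

variable {I : Type u} [SmallCategory I] [IsCofiltered I] (D : I ⥤ Scheme.{u})
  [∀ {i j} (f : i ⟶ j), IsAffineHom (D.map f)] {i₀ : I}
variable (c : Cone D) (hc : IsLimit c)
variable {X₀ Y₀ : Scheme.{u}} (f₀ : X₀ ⟶ Y₀) (g₀ : Y₀ ⟶ D.obj i₀)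
variable {X Y : Scheme.{u}} {f : X ⟶ Y} {g : Y ⟶ c.pt} {qY : Y ⟶ Y₀} {qX : X ⟶ X₀}
variable (hY : IsPullback qY g g₀ (c.π.app i₀)) (hX : IsPullback qX f f₀ qY)

include hc hY in
/-- The functions on the preimages of an affine open in the stages. -/
noncomputable def sysOpen {V : Y₀.Opens} (hV : IsAffineOpen V) :
    FlatSpread.Sys.{u, u} (qY.appLE V (qY ⁻¹ᵁ V) le_rfl).hom where
  J := Over i₀
  G j := Γ(stage D g₀ j, toBase D g₀ j ⁻¹ᵁ V)
  a j := ((toBase D g₀ j).appLE V _ le_rfl).hom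
  ψ j := ((proj D g₀ c hY j).appLE _ (qY ⁻¹ᵁ V)
    (by rw [← Scheme.Hom.comp_preimage, proj_toBase])).hom
  fac j := by
    rw [← CommRingCat.hom_comp, Scheme.Hom.appLE_comp_appLE]
    congr 2
    exact proj_toBase D g₀ c hY j
  nonempty := ⟨Over.mk (𝟙 i₀)⟩
  lift j x := by
    have : ∀ {i k : Over i₀} (a : i ⟶ k), IsAffineHom ((tower D g₀).map a) := fun a => isAffineHom_tower_map D g₀ a
    have := isAffineHom_toBase D g₀ j
    have hO : IsAffineOpen (toBase D g₀ j ⁻¹ᵁ V) := hV.preimage _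
    have e₀ : qY ⁻¹ᵁ V = proj D g₀ c hY j ⁻¹ᵁ (toBase D g₀ j ⁻¹ᵁ V) := by
      rw [← Scheme.Hom.comp_preimage, proj_toBase]
    obtain ⟨k, a, t, e, ht⟩ := ModDesc.exists_appLE_eq (tower D g₀) (towerCone D g₀ c hY)
      (isLimitTowerCone D g₀ c hY hc) (j := j) hO ((Y.presheaf.map (homOfLE e₀.ge).op).hom x)
    have ek : toBase D g₀ k ⁻¹ᵁ V = trans D g₀ a ⁻¹ᵁ (toBase D g₀ j ⁻¹ᵁ V) := by
      rw [← Scheme.Hom.comp_preimage, trans_toBase]
    refine ⟨k, ((trans D g₀ a).appLE _ _ ek.le).hom, ?_, ?_,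
      ((stage D g₀ k).presheaf.map (homOfLE ek.le).op).hom t, ?_⟩
    · rw [← CommRingCat.hom_comp, Scheme.Hom.appLE_comp_appLE]
      congr 2
      exact (towerCone D g₀ c hY).w a
    · rw [← CommRingCat.hom_comp, Scheme.Hom.appLE_comp_appLE]
      congr 2
      exact trans_toBase D g₀ a
    · rw [← CommRingCat.comp_apply, Scheme.Hom.map_appLE]
      have ht' : ((proj D g₀ c hY k).appLE (trans D g₀ a ⁻¹ᵁ (toBase D g₀ j ⁻¹ᵁ V))
          (proj D g₀ c hY j ⁻¹ᵁ (toBase D g₀ j ⁻¹ᵁ V)) e).hom t =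
        (Y.presheaf.map (homOfLE e₀.ge).op).hom x := ht
      have h1 := congrArg (fun z => (Y.presheaf.map (homOfLE e₀.le).op).hom z) ht'
      rw [← CommRingCat.comp_apply, Scheme.Hom.appLE_map] at h1
      refine h1.trans ?_
      change (Y.presheaf.map _).hom ((Y.presheaf.map _).hom x) = x
      rw [← CommRingCat.comp_apply, ← Functor.map_comp]
      exact congr($(Y.presheaf.map_id _) x)
  eq j y hy := by
    have : ∀ {i k : Over i₀} (a : i ⟶ k), IsAffineHom ((tower D g₀).map a) := fun a => isAffineHom_tower_map D g₀ a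
    have := isAffineHom_toBase D g₀ j
    have hO : IsAffineOpen (toBase D g₀ j ⁻¹ᵁ V) := hV.preimage _
    have e₀ : qY ⁻¹ᵁ V = proj D g₀ c hY j ⁻¹ᵁ (toBase D g₀ j ⁻¹ᵁ V) := by
      rw [← Scheme.Hom.comp_preimage, proj_toBase]
    obtain ⟨k, a, hk⟩ := exists_app_map_eq_zero_of_isLimit (tower D g₀) (towerCone D g₀ c hY)
      (isLimitTowerCone D g₀ c hY hc) (i := j) hO.isCompact y (by
        have h1 := congrArg (fun z => (Y.presheaf.map (homOfLE e₀.ge).op).hom z) hy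
        rw [map_zero, ← CommRingCat.comp_apply, Scheme.Hom.appLE_map] at h1
        exact (congr($((proj D g₀ c hY j).app_eq_appLE) y)).trans h1)
    have ek : toBase D g₀ k ⁻¹ᵁ V = trans D g₀ a ⁻¹ᵁ (toBase D g₀ j ⁻¹ᵁ V) := by
      rw [← Scheme.Hom.comp_preimage, trans_toBase]
    refine ⟨k, ((trans D g₀ a).appLE _ _ ek.le).hom, ?_, ?_, ?_⟩
    · rw [← CommRingCat.hom_comp, Scheme.Hom.appLE_comp_appLE]
      congr 2
      exact (towerCone D g₀ c hY).w a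
    · rw [← CommRingCat.hom_comp, Scheme.Hom.appLE_comp_appLE]
      congr 2
      exact trans_toBase D g₀ a
    · change ((trans D g₀ a).app _ ≫ (stage D g₀ k).presheaf.map (homOfLE ek.le).op).hom y = 0
      rw [CommRingCat.comp_apply]
      exact (congrArg _ hk).trans (map_zero _)

include hc hY hX in
/-- **Flatness on an affine piece descends to a stage.** -/
theorem exists_flat_piece [LocallyOfFinitePresentation f₀] (F₀ : X₀.Modules) (hq : Coh.IsQCoh F₀)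
    (hF₀ : CohB1.IsFP F₀) {V : Y₀.Opens} (hV : IsAffineOpen V) {U : X₀.Opens} (hU : IsAffineOpen U)
    (hUV : U ≤ f₀ ⁻¹ᵁ V)
    (hflat : ∀ x ∈ qX ⁻¹ᵁ U, FlatMod.IsFlatOverAt f ((Scheme.Modules.pullback qX).obj F₀) x) :
    ∃ j : Over i₀, ∀ x ∈ toBase D (f₀ ≫ g₀) j ⁻¹ᵁ U, FlatMod.IsFlatOverAt (stageMap D g₀ f₀ j)
      ((Scheme.Modules.pullback (toBase D (f₀ ≫ g₀) j)).obj F₀) x := by
  letI : Algebra Γ(Y₀, V) Γ(X₀, U) := (f₀.appLE V U hUV).hom.toAlgebra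
  haveI : Algebra.FinitePresentation Γ(Y₀, V) Γ(X₀, U) :=
    HasRingHomProperty.appLE (P := @LocallyOfFinitePresentation) f₀ inferInstance ⟨V, hV⟩ ⟨U, hU⟩ hUV
  haveI := LocFree.finitePresentation_sections_of_isFP hq hF₀ hU
  letI := FlatModB.secModule f₀ F₀ U V hUV
  haveI : IsScalarTower Γ(Y₀, V) Γ(X₀, U) Γ(F₀, U) := IsScalarTower.of_algebraMap_smul fun _ _ => rfl
  obtain ⟨n, m, π, -, -, W, hW, ⟨e⟩⟩ :=
    FlatSpread.exists_presentation (R := Γ(Y₀, V)) (S := Γ(X₀, U)) (M := Γ(F₀, U))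
  letI : Module (MvPolynomial (Fin n) Γ(Y₀, V)) Γ(F₀, U) := Module.compHom Γ(F₀, U) π.toRingHom
  haveI : IsScalarTower Γ(Y₀, V) (MvPolynomial (Fin n) Γ(Y₀, V)) Γ(F₀, U) := ⟨fun r p x => by
    change π (r • p) • x = r • π p • x
    rw [map_smul, smul_assoc]⟩
  let e₀ := e.restrictScalars Γ(Y₀, V)
  let s := sysOpen D c hc g₀ hY hV
  have := isAffineHom_π_app D c hc i₀
  have : IsAffineHom qY := MorphismProperty.of_isPullback hY.flip inferInstance
  have hOA : IsAffineOpen (qY ⁻¹ᵁ V) := hV.preimage qY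
  have h1 := (flat_tensor_sections_iff hX F₀ hq hV hU hUV hOA le_rfl).1 fun x hx => hflat x hx.1
  letI : Algebra Γ(Y₀, V) Γ(Y, qY ⁻¹ᵁ V) := (qY.appLE V (qY ⁻¹ᵁ V) le_rfl).hom.toAlgebra
  obtain ⟨k, hk⟩ := s.exists_fl_bot hW ((FlatSpread.flat_tensor_iff W e₀).1 h1)
  have := isAffineHom_toBase D g₀ k
  letI : Algebra Γ(Y₀, V) Γ(stage D g₀ k, toBase D g₀ k ⁻¹ᵁ V) :=
    ((toBase D g₀ k).appLE V (toBase D g₀ k ⁻¹ᵁ V) le_rfl).hom.toAlgebra
  refine ⟨k, fun x hx => (flat_tensor_sections_iff (isPullback_stageMap D g₀ f₀ k) F₀ hq hV hU hUV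
    (hV.preimage (toBase D g₀ k)) le_rfl).2 ((FlatSpread.flat_tensor_iff W e₀).2 hk) x ⟨hx, ?_⟩⟩
  have hx' : f₀ (toBase D (f₀ ≫ g₀) k x) ∈ V := hUV hx
  rwa [← Scheme.Hom.comp_apply, ← stageMap_toBase, Scheme.Hom.comp_apply] at hx'

omit [IsCofiltered I] [∀ {i j} (f : i ⟶ j), IsAffineHom (D.map f)] in
/-- Flatness at a point of a stage passes to later stages. -/
theorem isFlatOverAt_trans (F₀ : X₀.Modules) {l j : Over i₀} (a : l ⟶ j) (x : stage D (f₀ ≫ g₀) l)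
    (h : FlatMod.IsFlatOverAt (stageMap D g₀ f₀ j)
      ((Scheme.Modules.pullback (toBase D (f₀ ≫ g₀) j)).obj F₀) (trans D (f₀ ≫ g₀) a x)) :
    FlatMod.IsFlatOverAt (stageMap D g₀ f₀ l)
      ((Scheme.Modules.pullback (toBase D (f₀ ≫ g₀) l)).obj F₀) x :=
  isFlatOverAt_of_iso _ ((ModDesc.trIso _ _ (trans_toBase D (f₀ ≫ g₀) a)).app F₀)
    (FlatModBC.isFlatOverAt_baseChange (isPullback_trans_stageMap D g₀ f₀ a) _ x h)

include hc hY hX in
/-- **Flatness over the base descends to a stage.** -/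
theorem exists_isFlatOver_stage [CompactSpace X₀] [LocallyOfFinitePresentation f₀] (F₀ : X₀.Modules)
    (hq : Coh.IsQCoh F₀) (hF₀ : CohB1.IsFP F₀)
    (hflat : FlatMod.IsFlatOver f ((Scheme.Modules.pullback qX).obj F₀)) :
    ∃ j : Over i₀, FlatMod.IsFlatOver (stageMap D g₀ f₀ j)
      ((Scheme.Modules.pullback (toBase D (f₀ ≫ g₀) j)).obj F₀) := by
  classical
  have hcov : ∀ x : X₀, ∃ (V : Y₀.Opens) (U : X₀.Opens) (_ : U ≤ f₀ ⁻¹ᵁ V), IsAffineOpen V ∧ IsAffineOpen U ∧ x ∈ U := by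
    intro x
    obtain ⟨V, hV, hxV, -⟩ := exists_isAffineOpen_mem_and_subset (X := Y₀) (x := f₀ x) (U := ⊤) trivial
    obtain ⟨U, hU, hxU, hUV⟩ := exists_isAffineOpen_mem_and_subset (X := X₀) (x := x) (U := f₀ ⁻¹ᵁ V) hxV
    exact ⟨V, U, hUV, hV, hU, hxU⟩
  choose V U hUV hV hU hxU using hcov
  obtain ⟨T, hT⟩ := (isCompact_univ (X := X₀)).elim_finite_subcover (fun x => (U x : Set X₀)) (fun x => (U x).2)
    fun x _ => Set.mem_iUnion.2 ⟨x, hxU x⟩
  choose j hj using fun x : X₀ =>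
    exists_flat_piece D c hc f₀ g₀ hY hX F₀ hq hF₀ (hV x) (hU x) (hUV x) fun y _ => hflat y
  obtain ⟨l, hl⟩ := IsCofiltered.inf_objs_exists (T.image j)
  refine ⟨l, fun z => ?_⟩
  obtain ⟨x, hxT, hx⟩ : ∃ x ∈ T, toBase D (f₀ ≫ g₀) l z ∈ U x := by
    simpa using hT (Set.mem_univ (toBase D (f₀ ≫ g₀) l z))
  have a : l ⟶ j x := (hl (Finset.mem_image_of_mem j hxT)).some
  refine isFlatOverAt_trans D f₀ g₀ F₀ a z (hj x _ ?_)
  change toBase D (f₀ ≫ g₀) (j x) (trans D (f₀ ≫ g₀) a z) ∈ U x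
  rwa [← Scheme.Hom.comp_apply, trans_toBase]

include hc hY hX in
/-- Flatness on the preimage of an affine piece of a stage descends to a later stage. -/
theorem exists_flat_over_piece [LocallyOfFinitePresentation f₀] (F₀ : X₀.Modules) (hq : Coh.IsQCoh F₀)
    (hF₀ : CohB1.IsFP F₀) (k : Over i₀) {V : (stage D g₀ k).Opens} (hV : IsAffineOpen V)
    {U : (stage D (f₀ ≫ g₀) k).Opens} (hU : IsAffineOpen U) (hUV : U ≤ stageMap D g₀ f₀ k ⁻¹ᵁ V)
    (hflat : ∀ y ∈ proj D (f₀ ≫ g₀) c (isPullback_comp D g₀ c hY f₀ hX) k ⁻¹ᵁ U,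
      FlatMod.IsFlatOverAt f ((Scheme.Modules.pullback qX).obj F₀) y) :
    ∃ (j : Over i₀) (a : j ⟶ k), ∀ y ∈ trans D (f₀ ≫ g₀) a ⁻¹ᵁ U, FlatMod.IsFlatOverAt (stageMap D g₀ f₀ j)
      ((Scheme.Modules.pullback (toBase D (f₀ ≫ g₀) j)).obj F₀) y := by
  have hXS := isPullback_comp D g₀ c hY f₀ hX
  let g₁ : stage D g₀ k ⟶ D.obj k.left := toStage D g₀ k
  let f₁ : stage D (f₀ ≫ g₀) k ⟶ stage D g₀ k := stageMap D g₀ f₀ k
  have hY₁ : IsPullback (proj D g₀ c hY k) g g₁ (c.π.app k.left) := isPullback_proj D g₀ c hY k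
  have hX₁ : IsPullback (proj D (f₀ ≫ g₀) c hXS k) f f₁ (proj D g₀ c hY k) :=
    isPullback_proj_stageMap D g₀ c hY f₀ hX k
  have : LocallyOfFinitePresentation f₁ :=
    MorphismProperty.of_isPullback (P := @LocallyOfFinitePresentation) (isPullback_stageMap D g₀ f₀ k) ‹_›
  let F₁ := (Scheme.Modules.pullback (toBase D (f₀ ≫ g₀) k)).obj F₀
  let ι := ModDesc.trIso (proj D (f₀ ≫ g₀) c hXS k) (toBase D (f₀ ≫ g₀) k) (proj_toBase D (f₀ ≫ g₀) c hXS k)
  obtain ⟨j', hj'⟩ := exists_flat_piece D c hc f₁ g₁ hY₁ hX₁ F₁ (QC.isQCoh_pullback _ hq)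
    (ModDesc.isFP_pullback _ hq hF₀) hV hU hUV fun y hy =>
      isFlatOverAt_of_iso _ (ι.app F₀).symm (hflat y hy)
  -- the stage `j'` over `k` is a stage over `i₀`
  let j : Over i₀ := Over.mk (j'.hom ≫ k.hom)
  let a : j ⟶ k := Over.homMk j'.hom
  -- comparison of `stage D g₁ j'` with `stage D g₀ j`
  let eY : stage D g₀ j ⟶ stage D g₁ j' :=
    (isPullback_stage D g₁ j').lift (trans D g₀ a) (toStage D g₀ j) (trans_toStage D g₀ a)
  let eX : stage D (f₀ ≫ g₀) j ⟶ stage D (f₁ ≫ g₁) j' :=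
    (isPullback_stage D (f₁ ≫ g₁) j').lift (trans D (f₀ ≫ g₀) a) (toStage D (f₀ ≫ g₀) j) (by
      show trans D (f₀ ≫ g₀) a ≫ stageMap D g₀ f₀ k ≫ toStage D g₀ k = _
      rw [stageMap_toStage, trans_toStage]
      rfl)
  have heX₁ : eX ≫ toBase D (f₁ ≫ g₁) j' = trans D (f₀ ≫ g₀) a := IsPullback.lift_fst _ _ _ _
  have heY₁ : eY ≫ toBase D g₁ j' = trans D g₀ a := IsPullback.lift_fst _ _ _ _
  have heX₂ : eX ≫ toStage D (f₁ ≫ g₁) j' = toStage D (f₀ ≫ g₀) j := IsPullback.lift_snd _ _ _ _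
  have heY₂ : eY ≫ toStage D g₁ j' = toStage D g₀ j := IsPullback.lift_snd _ _ _ _
  have hw : eX ≫ stageMap D g₁ f₁ j' = stageMap D g₀ f₀ j ≫ eY := by
    refine (isPullback_stage D g₁ j').hom_ext ?_ ?_
    · rw [Category.assoc, Category.assoc, stageMap_toBase, heY₁, reassoc_of% heX₁, trans_stageMap]
    · rw [Category.assoc, Category.assoc, stageMap_toStage D g₁ f₁ j', heX₂, heY₂,
        stageMap_toStage D g₀ f₀ j]
  have hsq : IsPullback eX (stageMap D g₀ f₀ j) (stageMap D g₁ f₁ j') eY := by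
    refine IsPullback.of_right ?_ hw (isPullback_stageMap D g₁ f₁ j')
    rw [heX₁, heY₁]
    exact isPullback_trans_stageMap D g₀ f₀ a
  refine ⟨j, a, fun y hy => ?_⟩
  have hy' : eX y ∈ toBase D (f₁ ≫ g₁) j' ⁻¹ᵁ U := by
    change toBase D (f₁ ≫ g₁) j' (eX y) ∈ U
    rwa [← Scheme.Hom.comp_apply, heX₁]
  exact isFlatOverAt_of_iso _
    (((ModDesc.trIso eX (toBase D (f₁ ≫ g₁) j') heX₁).app F₁) ≪≫
      (ModDesc.trIso (trans D (f₀ ≫ g₀) a) _ (trans_toBase D (f₀ ≫ g₀) a)).app F₀)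
    (FlatModBC.isFlatOverAt_baseChange hsq _ y (hj' (eX y) hy'))

include hc hY hX in
/-- Flatness on an open neighbourhood of a point of the limit descends to a stage. -/
theorem exists_isFlatOverAt_stage [CompactSpace (D.obj i₀)] [QuasiSeparatedSpace (D.obj i₀)]
    [QuasiCompact (f₀ ≫ g₀)] [QuasiSeparated (f₀ ≫ g₀)] [LocallyOfFinitePresentation f₀]
    (F₀ : X₀.Modules) (hq : Coh.IsQCoh F₀) (hF₀ : CohB1.IsFP F₀) (W : X.Opens) {x : X} (hxW : x ∈ W)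
    (hW : IsCompact (W : Set X))
    (hflat : ∀ y ∈ W, FlatMod.IsFlatOverAt f ((Scheme.Modules.pullback qX).obj F₀) y) :
    ∃ j : Over i₀, FlatMod.IsFlatOverAt (stageMap D g₀ f₀ j)
      ((Scheme.Modules.pullback (toBase D (f₀ ≫ g₀) j)).obj F₀)
      (proj D (f₀ ≫ g₀) c (isPullback_comp D g₀ c hY f₀ hX) j x) := by
  have hXS := isPullback_comp D g₀ c hY f₀ hX
  have : ∀ {i k : Over i₀} (a : i ⟶ k), IsAffineHom ((tower D (f₀ ≫ g₀)).map a) :=
    fun a => isAffineHom_tower_map D (f₀ ≫ g₀) a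
  have : ∀ k, CompactSpace ((tower D (f₀ ≫ g₀)).obj k) := fun k =>
    haveI : CompactSpace X₀ := QuasiCompact.compactSpace_of_compactSpace (f₀ ≫ g₀)
    compactSpace_stage D _ k
  have : ∀ k, QuasiSeparatedSpace ((tower D (f₀ ≫ g₀)).obj k) := fun k =>
    haveI : QuasiSeparatedSpace X₀ := quasiSeparatedSpace_of_quasiSeparated (f₀ ≫ g₀)
    quasiSeparatedSpace_stage D _ k
  obtain ⟨k, Wk, -, hWk⟩ := exists_preimage_eq (tower D (f₀ ≫ g₀)) (towerCone D (f₀ ≫ g₀) c hXS)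
    (isLimitTowerCone D (f₀ ≫ g₀) c hXS hc) W hW
  let f₁ : stage D (f₀ ≫ g₀) k ⟶ stage D g₀ k := stageMap D g₀ f₀ k
  let z := proj D (f₀ ≫ g₀) c hXS k x
  have hz : z ∈ Wk := by
    rw [← hWk] at hxW
    exact hxW
  obtain ⟨V, hV, hzV, -⟩ := exists_isAffineOpen_mem_and_subset (X := stage D g₀ k) (x := f₁ z) (U := ⊤) trivial
  obtain ⟨U, hU, hzU, hUV⟩ := exists_isAffineOpen_mem_and_subset (X := stage D (f₀ ≫ g₀) k) (x := z)
    (U := Wk ⊓ f₁ ⁻¹ᵁ V) ⟨hz, hzV⟩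
  obtain ⟨j, a, hj⟩ := exists_flat_over_piece D c hc f₀ g₀ hY hX F₀ hq hF₀ k hV hU (fun y hy => (hUV hy).2)
    fun y hy => hflat y (hWk.le (hUV hy).1)
  refine ⟨j, hj _ ?_⟩
  change trans D (f₀ ≫ g₀) a (proj D (f₀ ≫ g₀) c hXS j x) ∈ U
  rw [← Scheme.Hom.comp_apply]
  exact (congr($((towerCone D (f₀ ≫ g₀) c hXS).w a) x)).symm ▸ hzU

end Groth.Agent.FlatLimMod

namespace Groth.Agent.FlatLimMod

/-- Flatness at a point is unchanged by composing with an isomorphism of the base. -/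
theorem isFlatOverAt_comp_iso {X Y Y' : Scheme.{u}} (f : X ⟶ Y) (g : Y ⟶ Y') [IsIso g] {f' : X ⟶ Y'}
    (w : f ≫ g = f') (M : X.Modules) {x : X} (h : FlatMod.IsFlatOverAt f M x) :
    FlatMod.IsFlatOverAt f' M x := by
  have hsq : IsPullback (𝟙 X) f' f (inv g) := IsPullback.of_horiz_isIso ⟨by simp [← w]⟩
  exact isFlatOverAt_of_iso f' ((Scheme.Modules.pullbackId X).app M)
    (FlatModBC.isFlatOverAt_baseChange hsq M x h)

end Groth.Agent.FlatLimMod
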